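import Cfsg.Agent.H904.McLCent

/-!
# Two commuting nonabelian pairs inside an extraspecial subgroup of order `3 ^ 5` of the McLaughlin group (helper8)

`exists_pairs` : in a group `L ≅ McL` there are `x₁, y₁, x₂, y₂`, the `xᵢ, yᵢ` do not commute, the two pairs commute,
and the group generated by the four elements is a 3-group (for S4933: `(Ly, 3)`, `(McL, 3)`).
-/

set_option autoImplicit false
set_option maxRecDepth 100000

namespace Cfsg.Agent.H8.HT.McLPairs

open Cfsg.Agent.SporadicA.PermTab Cfsg.Agent.McLType.X275 Cfsg.Agent.McLType.Gens Cfsg.Agent.H904.McLCent Subgroup Equiv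

universe u

/-! ### adjoining one element to a `p`-subgroup -/

theorem isPGroup_zpowers {G : Type u} [Group G] {p : ℕ} {g : G} (hg : g ^ p = 1) : IsPGroup p ↥(zpowers g) := by
  rintro ⟨_, n, rfl⟩
  refine ⟨1, Subtype.ext ?_⟩
  show (g ^ n) ^ p ^ 1 = 1
  rw [pow_one, ← zpow_natCast, ← zpow_mul, mul_comm, zpow_mul, zpow_natCast, hg, one_zpow]

theorem step {G : Type u} [Group G] [Finite G] {p : ℕ} {S : Set G} (hK : IsPGroup p ↥(closure S)) {g : G}
    (hg : g ^ p = 1) (hn : ∀ s ∈ S, g * s * g⁻¹ ∈ closure S) : IsPGroup p ↥(closure (insert g S)) := by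
  have h1 : g ∈ normalizer (closure S : Set G) := by
    refine mem_normalizer_fintype (S := (closure S : Set G)) fun n hn' => ?_
    have h2 : (closure S).map (MulAut.conj g).toMonoidHom ≤ closure S := by
      rw [MonoidHom.map_closure, closure_le]
      rintro _ ⟨s, hs, rfl⟩
      exact hn s hs
    exact h2 ⟨n, hn', rfl⟩
  have h2 := (isPGroup_zpowers hg).to_sup_of_normal_right' hK (zpowers_le.2 h1)
  have h3 : closure (insert g S) = zpowers g ⊔ closure S := by
    rw [Set.insert_eq, Subgroup.closure_union, zpowers_eq_closure]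
  rwa [h3]

theorem conj_mem_of_comm {G : Type u} [Group G] {S : Set G} {g s : G} (hs : s ∈ S) (h : g * s = s * g) :
    g * s * g⁻¹ ∈ closure S := by
  rw [h, mul_inv_cancel_right]
  exact subset_closure hs

/-- the group generated by two commuting pairs with the same commutator of order `p` -/
theorem isPGroup_five {G : Type u} [Group G] [Finite G] {p : ℕ} {z x₁ y₁ x₂ y₂ : G} (hz : z ^ p = 1)
    (hx₁ : x₁ ^ p = 1) (hy₁ : y₁ ^ p = 1) (hx₂ : x₂ ^ p = 1) (hy₂ : y₂ ^ p = 1) (z₁ : z * x₁ = x₁ * z)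
    (z₂ : z * y₁ = y₁ * z) (z₃ : z * x₂ = x₂ * z) (z₄ : z * y₂ = y₂ * z) (c₁ : x₁ * x₂ = x₂ * x₁)
    (c₂ : x₁ * y₂ = y₂ * x₁) (c₃ : y₁ * x₂ = x₂ * y₁) (c₄ : y₁ * y₂ = y₂ * y₁) (h₁ : x₁ * y₁ = y₁ * x₁ * z)
    (h₂ : x₂ * y₂ = y₂ * x₂ * (z * z)) : IsPGroup p ↥(closure ({y₂, x₂, y₁, x₁, z} : Set G)) := by
  have k₀ : IsPGroup p ↥(closure ({z} : Set G)) := by
    rw [← zpowers_eq_closure]
    exact isPGroup_zpowers hz
  have k₁ : IsPGroup p ↥(closure ({x₁, z} : Set G)) := by
    refine step k₀ hx₁ ?_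
    intro s hs
    rw [Set.mem_singleton_iff] at hs
    subst hs
    exact conj_mem_of_comm rfl z₁.symm
  have k₂ : IsPGroup p ↥(closure ({y₁, x₁, z} : Set G)) := by
    refine step k₁ hy₁ ?_
    intro s hs
    simp only [Set.mem_insert_iff, Set.mem_singleton_iff] at hs
    rcases hs with rfl | rfl
    · have h3 : y₁ * s * y₁⁻¹ = s * z⁻¹ := by
        have h4 : y₁ * s = s * y₁ * z⁻¹ := by rw [h₁]; group
        rw [h4, mul_assoc s, ← (show Commute z y₁ from z₂).inv_left.eq]
        group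
      rw [h3]
      exact mul_mem (subset_closure (by simp)) (inv_mem (subset_closure (by simp)))
    · exact conj_mem_of_comm (by simp) z₂.symm
  have k₃ : IsPGroup p ↥(closure ({x₂, y₁, x₁, z} : Set G)) := by
    refine step k₂ hx₂ ?_
    intro s hs
    simp only [Set.mem_insert_iff, Set.mem_singleton_iff] at hs
    rcases hs with rfl | rfl | rfl
    · exact conj_mem_of_comm (by simp) c₃.symm
    · exact conj_mem_of_comm (by simp) c₁.symm
    · exact conj_mem_of_comm (by simp) z₃.symm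
  refine step k₃ hy₂ ?_
  intro s hs
  simp only [Set.mem_insert_iff, Set.mem_singleton_iff] at hs
  rcases hs with rfl | rfl | rfl | rfl
  · have hc : Commute (z * z) y₂ := (show Commute z y₂ from z₄).mul_left (show Commute z y₂ from z₄)
    have h3 : y₂ * s * y₂⁻¹ = s * (z * z)⁻¹ := by
      have h4 : y₂ * s = s * y₂ * (z * z)⁻¹ := by rw [h₂]; group
      rw [h4, mul_assoc s, ← hc.inv_left.eq]
      group
    rw [h3]
    have h5 : z ∈ closure ({s, y₁, x₁, z} : Set G) := subset_closure (by simp)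
    exact mul_mem (subset_closure (by simp)) (inv_mem (mul_mem h5 h5))
  · exact conj_mem_of_comm (by simp) c₄.symm
  · exact conj_mem_of_comm (by simp) c₂.symm
  · exact conj_mem_of_comm (by simp) z₄.symm

/-! ### tables -/

/-- a word in the seven generators -/
theorem word7 (W : List ℕ) {S : ℕ} (hW : (W.all fun P => e7.contains P) = true) (hS : chkWord 275 S W = true) :
    InG K0 S := by
  refine InG.word (L := W) (fun P hP => inAll P ?_) hS
  rw [List.all_eq_true] at hW
  exact List.contains_iff_mem.1 (hW P hP)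

/-- the table of an element of order three -/
def tx1 : ℕ := 0x440788e32221f87a06e1ac434710751a81a41b1041a63846587d1e41fc7e8841b63743c8f61ee3ac7a90a0983b4879091de1d07f86c1f03a4720e81f4338418ea2243c07010206a378738cc14c2580e82204c27c138a11541142c85504a29c2309b13a2604890e06e3407f07a1f8394408710e033c40072210354688f91ae400548240ac2942c0970a62ac220f30f840c398341cc3ec3c0770d4208838ca216324808da1b83344c8a00b42702901c0422484f0d80de1ac830ec20a3643b06d03c16c288c31841283283118a3205b0ae0601885c0b20900a85d84b16a1840d8170121080088c0140f84682c0ce1986082e0503105e0b310c0340402d0be2c05c832052180630ad09c0f4018640bc2bc090ac1dc2880f8a41a4268238540f64306f85c04628c4a85712824c5402006622c2083918e2c45e84301e1402001501c2241e01a1742dc5f0190082401d00b02801c4503b18018c5a02f17e174340490560140880203004c278100702384781610e0182683f10a03044000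

/-- the table of an element of order three -/
def ty1 : ℕ := 0x320788e514c1f87f85513e43443071170140338ae1b625c7f0692140247e81721e288128f21ee3ac7a8f60863b4698e20840907c0311e8130608ab1ce31c418392241205e89d02a344200f91543903d033050310408b62223f01b06605c338701001662ec1e0e30443bc460621864381801b1082843f80d1302b04588d07c2c8820650d8350050c50c22d45889c0e640c0887b1b03ec3205b0300b41e8c0114220668ba12a23c5c8ca0c02d03c005018430578900b4010838b013242c2680709e17c2f0452203743a0561c2308678a904e0745289b14807c840d51d00203a870100340390cb058224660580b21b84b07901e358489022120042985c0ee2688280203c1bc490930a24182e85209c21c3504b1d41280d0f008e3b05f82b0323181f8820640ec5f00316e2386d02f06e378220ee14e104230e904c1f47d00e06a35c5e02a1500e06e0340263986f8760400586c849140070798141a415c108a302018c3e0230241ac148541282b48086d13c0180583a1921a042800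

/-- the table of an element of order three -/
def tx2 : ℕ := 0x20c888c221e38c7687c0ee3c85d8621b82f8630de2060c43007d1f04087e8fa1f60cc3c8f41ee4287a8ff1743d8788751d01947590121a1d02586706e2fc870ee1ca4205e8800d0198638641b60d02f8d2054120180cc1a60b4370b51641c03782e1663642e9101081cc700f01ce3207510b1041e03f8610f41ec860f90ec4001b0da0d81a41a8cd0da344158270b22a84581902e2984681b02829c4d88a1480582b0a80a023c4901d08c0e42900b020044040470b41501289d0aa16c0d05700e260018dd0fc398748c51c24485b0b91e64245c10618018c620c120a2f06b04a1602b8148cb15a124678321de4107210716e388390ec1943242f0901402682104109c230548130020f4428a113c2200e0d5102338178710b80242000e1582ac0a82204207c4a8530400301204d186340160b41f837c7f04c0d43506c0b10d60a0578d7086224528960741140101201e21c4303813e0984e0a314413c2c01811c0ec4c80407c0284882300a1104b80d03c0184a0930a20fc1e000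

/-- the table of an element of order three -/
def ty2 : ℕ := 0x40c790d31fe2983f06e10c438500620a4190828111d6158460cf1842c07e8d821a05c349101ee38c7a8c8138394768981243a8418cd2240e4541040e020888834154328300b315a3785f9001e80907102d03816c6083d1f029c688c61b81286587d1d8364018db1ba1542d07712043c3d90b18e26c810880f41945c9061282f8548f30622840808f0bc1f00989615c3d8398741444288390809a3484a88a0be144360b416c4044c81d0de064590380d61984285c1fc0102809a1164243185d09c3002b8221e2114180e112e3ec128ab1aa120468d40ea0a0620e916a1b46b0370fe1080404607e048170580ce3bc218b8028290008800360785e0c30e20242c8021222f46800e01a2941487910e13c078da1c811c3b0bb19c2747302b1744302a0841260143c0c9016238770b71ce0d82204b1f40307002707c3e47e03206a0684f0491020ec6604c042100050d70542bc7802013e07c5606a066184588891be060740151461040382c04c08c628720a60181783a0781a00b000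

/-- the table of the commutator -/
def tz : ℕ := 0x20c530c21b638c7586e03a3d82401b1362c8458e81e2024188791e81187e8d22060b4290ff1ee3c87a8f80724287d8771240c0869021da09c5d0110b831c870d51ca2904786f02019c200501a61d0310a70282280c8dc21e05c2c8c611a0dc2b06417a420041100441546690b08e320560981081a42d0070e20906889503e3e4398ea0fe0941089d0ae2ac0a8340f84445a8650662a85f05f0163e8660bb1b2174400ee05c2cc6f07520212c3e82a01c1980b0ce0d80d43c0e006c1e8178530063c0308450fc374798b01344485c0ae12c3581e8cf10c03c6004315221c500c3118108270e10820e0528041323bc260a107c27c0f0fe1c42440684a21232c5c83a0023146802c0522d85e0d41920f0130a80f639c2685b0e01805f8681b4430060820a80808006d0ec0ac4081a120414010c11b024c4b89c03841c5103f0b0060440a3168124830e915a39809863024214620891941a8720941f8178118051622dc8200a0760c84f06b05037c7604f0a20186b8440e423857800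

theorem in_tx1 : InG K0 tx1 := word7 [e_g, e_x, e_a, e_g, e_a] (by decide +kernel) (by decide +kernel)

theorem in_ty1 : InG K0 ty1 := word7 [e_c, e_w, e_g, e_w, e_x, e_g, e_a, e_c, e_w, e_g, e_w, e_x, e_g, e_a] (by decide +kernel) (by decide +kernel)

theorem in_tx2 : InG K0 tx2 := word7 [e_b, e_c, e_a, e_x, e_b, e_c, e_a, e_x] (by decide +kernel) (by decide +kernel)

theorem in_ty2 : InG K0 ty2 := word7 [e_b, e_x, e_g, e_w, e_g, e_b, e_x, e_g, e_w, e_g] (by decide +kernel) (by decide +kernel)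

theorem in_tz : InG K0 tz := InG.word (L := [ty1, tx1, ty1, ty1, tx1, tx1]) (fun P hP => by
  simp only [List.mem_cons, List.not_mem_nil, or_false] at hP
  rcases hP with rfl | rfl | rfl | rfl | rfl | rfl
  · exact in_ty1
  · exact in_tx1
  · exact in_ty1
  · exact in_ty1
  · exact in_tx1
  · exact in_tx1) (by decide +kernel)

/-- `x` acts as `f` -/
def T {L : Type u} [Group L] (θ : L →* Perm (Fin 275)) (x : L) (f : ℕ → ℕ) : Prop :=
  ∀ i : Fin 275, ((θ x i : Fin 275) : ℕ) = f i

variable {L : Type u} [Group L] {θ : L →* Perm (Fin 275)}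

theorem T.mul {x y : L} {f g : ℕ → ℕ} (hx : T θ x f) (hy : T θ y g) : T θ (x * y) (fun i => f (g i)) := by
  intro i
  rw [map_mul, Perm.mul_apply, hx, hy]

theorem T.one : T θ 1 (fun i => i) := by
  intro i
  rw [map_one, Perm.one_apply]

theorem T.eq (R : Rep L θ) {x y : L} {f g : ℕ → ℕ} (hx : T θ x f) (hy : T θ y g)
    (h : allB (fun i => Nat.beq (f i) (g i)) 275 = true) : x = y := by
  apply R.inj
  refine Equiv.ext fun i => Fin.ext ?_
  rw [hx i, hy i]
  exact Nat.eq_of_beq_eq_true ((allB_iff _ _).1 h i i.2)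

theorem T.ne {x y : L} {f g : ℕ → ℕ} (hx : T θ x f) (hy : T θ y g) (j : Fin 275) (h : f j ≠ g j) : x ≠ y := by
  rintro rfl
  exact h ((hx j).symm.trans (hy j))

theorem T.cube (R : Rep L θ) {x : L} {f : ℕ → ℕ} (hx : T θ x f)
    (h : allB (fun i => Nat.beq (f (f (f i))) i) 275 = true) : x ^ 3 = 1 := by
  rw [show x ^ 3 = x * (x * x) by rw [pow_succ, pow_two, mul_assoc]]
  exact T.eq R (hx.mul (hx.mul hx)) T.one h

/-- **two commuting nonabelian pairs in a 3-subgroup of the McLaughlin group** -/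
theorem exists_pairs [Finite L] (h : Cfsg.Spor.IsoMcL L) : ∃ x₁ y₁ x₂ y₂ : L, x₁ * y₁ ≠ y₁ * x₁ ∧ x₂ * y₂ ≠ y₂ * x₂ ∧
    x₁ * x₂ = x₂ * x₁ ∧ x₁ * y₂ = y₂ * x₁ ∧ y₁ * x₂ = x₂ * y₁ ∧ y₁ * y₂ = y₂ * y₁ ∧
    ∃ E : Subgroup L, IsPGroup 3 ↥E ∧ x₁ ∈ E ∧ y₁ ∈ E ∧ x₂ ∈ E ∧ y₂ ∈ E := by
  obtain ⟨θ, R⟩ := exists_rep h
  obtain ⟨x₁, hx₁⟩ := R.exists_of in_tx1
  obtain ⟨y₁, hy₁⟩ := R.exists_of in_ty1
  obtain ⟨x₂, hx₂⟩ := R.exists_of in_tx2
  obtain ⟨y₂, hy₂⟩ := R.exists_of in_ty2
  obtain ⟨z, hz⟩ := R.exists_of in_tz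
  have hx₁ : T θ x₁ (lk tx1) := hx₁
  have hy₁ : T θ y₁ (lk ty1) := hy₁
  have hx₂ : T θ x₂ (lk tx2) := hx₂
  have hy₂ : T θ y₂ (lk ty2) := hy₂
  have hz : T θ z (lk tz) := hz
  have c₁ : x₁ * x₂ = x₂ * x₁ := T.eq R (hx₁.mul hx₂) (hx₂.mul hx₁) (by decide +kernel)
  have c₂ : x₁ * y₂ = y₂ * x₁ := T.eq R (hx₁.mul hy₂) (hy₂.mul hx₁) (by decide +kernel)
  have c₃ : y₁ * x₂ = x₂ * y₁ := T.eq R (hy₁.mul hx₂) (hx₂.mul hy₁) (by decide +kernel)
  have c₄ : y₁ * y₂ = y₂ * y₁ := T.eq R (hy₁.mul hy₂) (hy₂.mul hy₁) (by decide +kernel)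
  have z₁ : z * x₁ = x₁ * z := T.eq R (hz.mul hx₁) (hx₁.mul hz) (by decide +kernel)
  have z₂ : z * y₁ = y₁ * z := T.eq R (hz.mul hy₁) (hy₁.mul hz) (by decide +kernel)
  have z₃ : z * x₂ = x₂ * z := T.eq R (hz.mul hx₂) (hx₂.mul hz) (by decide +kernel)
  have z₄ : z * y₂ = y₂ * z := T.eq R (hz.mul hy₂) (hy₂.mul hz) (by decide +kernel)
  have h₁ : x₁ * y₁ = y₁ * x₁ * z := T.eq R (hx₁.mul hy₁) ((hy₁.mul hx₁).mul hz) (by decide +kernel)
  have h₂ : x₂ * y₂ = y₂ * x₂ * (z * z) := T.eq R (hx₂.mul hy₂) ((hy₂.mul hx₂).mul (hz.mul hz)) (by decide +kernel)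
  have n₁ : x₁ * y₁ ≠ y₁ * x₁ := T.ne (hx₁.mul hy₁) (hy₁.mul hx₁) 1 (by decide +kernel)
  have n₂ : x₂ * y₂ ≠ y₂ * x₂ := T.ne (hx₂.mul hy₂) (hy₂.mul hx₂) 1 (by decide +kernel)
  refine ⟨x₁, y₁, x₂, y₂, n₁, n₂, c₁, c₂, c₃, c₄, closure ({y₂, x₂, y₁, x₁, z} : Set L), ?_, subset_closure (by simp),
    subset_closure (by simp), subset_closure (by simp), subset_closure (by simp)⟩
  exact isPGroup_five (hz.cube R (by decide +kernel)) (hx₁.cube R (by decide +kernel)) (hy₁.cube R (by decide +kernel))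
    (hx₂.cube R (by decide +kernel)) (hy₂.cube R (by decide +kernel)) z₁ z₂ z₃ z₄ c₁ c₂ c₃ c₄ h₁ h₂

end Cfsg.Agent.H8.HT.McLPairs
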